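import Groth.Agent.H21Split.Bru.BorelFibre
import Groth.Agent.H21Split.Bru.Maximal
import Groth.Agent.H21Split.TypeR.RadTorus
import Groth.Agent.H21Split.TypeR.Comm2
import Groth.Agent.H21Split.TypeR.Local
import Groth.Agent.H21Split.Red0.BaseExists
import Groth.Agent.H21Split.ParabRoots
import Groth.Agent.S3900
import Mathlib.Algebra.Polynomial.Laurent

/-!
The roots of a parabolic subgroup containing the torus of a splitting.
-/

open CategoryTheory MonoidalCategory CartesianMonoidalCategory MonObj GrpObj AlgebraicGeometry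
open CategoryTheory.Limits
open Groth.Agent.H21Root (opp root_opp wl smul_opp)

universe u

set_option autoImplicit false
set_option backward.isDefEq.respectTransparency false
set_option linter.style.haveILetI false
set_option linter.unusedSectionVars false
set_option synthInstance.maxHeartbeats 400000
set_option maxHeartbeats 1000000

noncomputable section

namespace Groth.Agent.H21Split.Parab

open Groth.Agent.H21Split.TypeR

variable {S : Scheme.{u}} {G P : Over S} [GrpObj G] [GrpObj P] (D : Red.SplitRed G) (p : P ⟶ G)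
  (tP : D.T ⟶ P) (htP : tP ≫ p = D.i)

theorem fac_mul [IsMonHom p] {X : Over S} {z z' : X ⟶ G} (h : Fac p z) (h' : Fac p z') : Fac p (z * z') := by
  obtain ⟨w, rfl⟩ := h
  obtain ⟨w', rfl⟩ := h'
  exact ⟨w * w', MonObj.mul_comp _ _ _⟩

theorem fac_inv [IsMonHom p] {X : Over S} {z : X ⟶ G} (h : Fac p z) : Fac p z⁻¹ := by
  obtain ⟨w, rfl⟩ := h
  exact ⟨w⁻¹, GrpObj.inv_comp _ _⟩

theorem fac_pre {X Y : Over S} (k : Y ⟶ X) {z : X ⟶ G} (h : Fac p z) : Fac p (k ≫ z) := by
  obtain ⟨w, rfl⟩ := h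
  exact ⟨k ≫ w, Category.assoc _ _ _⟩

include htP in
theorem fac_tPt {R B : Type u} [CommRing R] (g : Spec (CommRingCat.of R) ⟶ S) [CommRing B] [Algebra R B]
    (χ : Multiplicative D.M →* B) : Fac p (tPt g D χ) :=
  ⟨ds g χ ≫ D.split.inv.hom.hom ≫ tP, by rw [tPt, Category.assoc, Category.assoc, htP]⟩

variable [IsMonHom p] [IsClosedImmersion p.left]

include htP in
/-- **A parabolic containing the torus contains the root groups of a system of positive roots at a geometric point.** -/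
theorem exists_base_fac (hP : Red.IsParabolic p) (s : S) :
    ∃ b : D.P.Base, ∀ c ∈ RedSub.posRoots D.P b, ∃ y : AlgebraicClosure (S.residueField s),
      y ≠ 0 ∧ Fac p (uPt (Red.geomPt s) D c y) := by
  classical
  let Ω := AlgebraicClosure (S.residueField s)
  let g := Red.geomPt s
  haveI : Nonempty S := ⟨s⟩
  haveI := H21Red0.isReduced_of_nonempty D
  haveI := D.fintypeIdx
  obtain ⟨b⟩ := H21Red0.nonempty_base D
  obtain ⟨m, ep, hpos⟩ := exists_enum D (RedSub.posRoots D.P b)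
  obtain ⟨iG, iM⟩ := exists_borelGrp D b hpos
  haveI := iM
  obtain ⟨hGa, hGs, hGc, -⟩ := D.reductive.2.2 s
  haveI := hGa
  haveI := hGs
  haveI := hGc
  let ps := (Over.pullback g).map p
  haveI : IsMonHom ps := H21Diag.isMonHom_bcMap g p
  obtain ⟨-, -, -, B', _, b₀, hB'⟩ := hP.2.2.2 s
  obtain ⟨g₀, f, hf⟩ := Groth.Agent.S3900.result Ω (Red.geomFibre s G) _ B'
    ((Over.pullback g).map (RedSub.borelMap D ep)) (b₀ ≫ ps) (isBorelOver_borel D b hpos g) hB'
  haveI := isAffineHom_hom D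
  let q₀ : pt g Ω ⟶ G := fibEquiv g Ω G (toUnit (affO Ω) ≫ g₀)
  -- the conjugate Borel group lies in the parabolic
  have hconj : ∀ (A : Type u) [CommRing A] [Algebra Ω A] (z : pt g A ⟶ D.T ⊗ RedSub.pow (Red.Ga S) m),
      Fac p ((pmap g (Algebra.ofId Ω A) ≫ q₀) * (z ≫ RedSub.borelMap D ep) * (pmap g (Algebra.ofId Ω A) ≫ q₀)⁻¹) := by
    intro A _ _ z
    let z₀ := (fibEquiv g A (D.T ⊗ RedSub.pow (Red.Ga S) m)).symm z
    refine ⟨fibEquiv g A P (z₀ ≫ f.hom ≫ b₀), ?_⟩
    rw [← fibEquiv_comp, Category.assoc, Category.assoc, hf]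
    change fibEquiv g A G (z₀ ≫ AGF.conjBy g₀ _) = _
    rw [AGF.conjBy, MonObj.comp_mul, MonObj.comp_mul, GrpObj.comp_inv, ← Category.assoc z₀ (toUnit _),
      toUnit_unique (z₀ ≫ toUnit _) (affMap (Algebra.ofId Ω A) ≫ toUnit (affO Ω)), Category.assoc,
      ← fibHom_eq, map_mul, map_mul, map_inv, fibHom_eq, fibHom_eq, fibEquiv_affMap, fibEquiv_comp,
      Equiv.apply_symm_apply]
  obtain ⟨l, -, pp, hpp, q, hq, hq₀⟩ := all_mem_BU D b g q₀
  obtain ⟨t, ⟨χt, rfl⟩, w, hw, rfl⟩ := (mem_TU D g).mp hpp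
  obtain ⟨x, rfl⟩ := (mem_Ug_iff D g (isPosSet_posRoots b) ep hpos.1 hpos.2).mp hw
  set n := sec g (R := Ω) (nW D l) with hn
  -- a torus point conjugated by the unipotent part
  let L := LaurentPolynomial Ω
  obtain ⟨h, hh, -⟩ := exists_regular D b
  let cz : Multiplicative D.M →* L :=
    { toFun := fun k => LaurentPolynomial.T (h k.toAdd)
      map_one' := by simp
      map_mul' := fun a c => by rw [toAdd_mul, map_add, LaurentPolynomial.T_add] }
  let ι₀ : Ω →ₐ[Ω] L := Algebra.ofId Ω L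
  let k₀ := pmap g ι₀
  let τ : pt g L ⟶ G := tPt g D cz
  have hτ : Fac p ((k₀ ≫ uProd g D ep x) * τ * (k₀ ≫ uProd g D ep x)⁻¹) := by
    let N := k₀ ≫ n
    let Q := k₀ ≫ q
    obtain ⟨χ', hχ'⟩ : ∃ χ', tPt g D χ' = N⁻¹ * τ * N := by
      refine ⟨cz.comp (AddMonoidHom.toMultiplicative (wMap D (wl D.P l)⁻¹)), ?_⟩
      have h1 := (rl_nW_inv D l).acts (R := Ω) g L cz
      rw [GrpObj.comp_inv, _root_.inv_inv] at h1
      simp only [N, n, k₀, ← Category.assoc]
      rw [toUnit_unique (pmap g ι₀ ≫ toUnit _) (toUnit _)]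
      exact h1.symm
    -- the point of the Borel group which is moved to the torus point
    obtain ⟨z, hz⟩ : ∃ z : pt g L ⟶ D.T ⊗ RedSub.pow (Red.Ga S) m,
        z ≫ RedSub.borelMap D ep = Q⁻¹ * tPt g D χ' * Q := by
      obtain ⟨zq, hzq⟩ := exists_lift_borel D g b hpos hq
      let zt : pt g L ⟶ D.T ⊗ RedSub.pow (Red.Ga S) m :=
        lift (ds g χ' ≫ D.split.inv.hom.hom) (tuple m fun _ => 1)
      have hzt : zt ≫ RedSub.borelMap D ep = tPt g D χ' := by
        rw [RedSub.borelMap, MonObj.comp_mul, ← Category.assoc, ← Category.assoc, lift_fst, lift_snd, comp_prodMap,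
          List.prod_eq_one fun a ha => ?_, _root_.mul_one, tPt, Category.assoc]
        obtain ⟨i, rfl⟩ := List.mem_ofFn.mp ha
        rw [tuple_pr]
        haveI : IsMonHom (D.u (ep i)) := (D.rootHom (ep i)).1
        exact MonObj.one_comp _
      refine ⟨(k₀ ≫ zq)⁻¹ * zt * (k₀ ≫ zq), ?_⟩
      simp only [MonObj.mul_comp, GrpObj.inv_comp, Category.assoc, hzq, hzt, Q]
    have h1 := hconj L z
    rw [hz, hχ'] at h1
    have hT : Fac p (k₀ ≫ tPt g D χt) := fac_pre p _ (fac_tPt D p tP htP g χt)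
    have h2 := fac_mul p (fac_mul p (fac_inv p hT) h1) hT
    rw [← hq₀] at h2
    simp only [MonObj.comp_mul, N, Q, n] at h2 ⊢
    convert h2 using 1
    simp only [k₀, ι₀, _root_.mul_inv_rev]
    group
  -- the unipotent part lies in the parabolic
  obtain ⟨Qi, hQi⟩ := exists_inv g D (isPosSet_posRoots b) ep hpos.1 hpos.2
  let y : Fin m → Ω := fun k => MvPolynomial.aeval x (Qi k)
  have hy : (uProd g D ep x)⁻¹ = uProd g D ep y := hQi Ω x
  let e : Fin m → ℕ := fun k => (h (D.P.root (ep k))).toNat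
  have he : ∀ k, 0 < h (D.P.root (ep k)) := fun k => hh _ (hpos.2 ▸ ⟨k, rfl⟩)
  let A₀ := Polynomial Ω
  let z₀ : pt g A₀ ⟶ G :=
    (pmap g (Algebra.ofId Ω A₀) ≫ uProd g D ep x) * uProd g D ep fun k => Polynomial.X ^ e k * Polynomial.C (y k)
  have hz₀ : Fac p z₀ := by
    refine fac_of_injective p g Polynomial.toLaurentAlg Polynomial.toLaurent_injective ?_
    rw [MonObj.comp_mul, ← Category.assoc, pmap_comp, pmap_uProd,
      show (Polynomial.toLaurentAlg (R := Ω)).comp (Algebra.ofId Ω A₀) = ι₀ from Subsingleton.elim _ _]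
    have h3 := fac_mul p hτ (fac_inv p (fac_tPt D p tP htP g cz))
    have e1 : (τ * (k₀ ≫ uProd g D ep x)⁻¹) * τ⁻¹ =
        uProd g D ep fun k => Polynomial.toLaurentAlg (R := Ω) (Polynomial.X ^ e k * Polynomial.C (y k)) := by
      rw [← GrpObj.comp_inv, hy, pmap_uProd]
      simp only [τ]
      rw [tPt_conj_uProd]
      congr 1
      funext k
      change LaurentPolynomial.T (h (D.P.root (ep k))) * ι₀ (y k) = _
      rw [map_mul, map_pow]
      simp [e, Int.toNat_of_nonneg (he k).le, ι₀, Algebra.ofId_apply]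
      exact _root_.mul_comm _ _
    rw [pmap_uProd, ← pmap_uProd (x := x), ← e1]
    convert h3 using 1
    simp only [k₀, τ]
    group
  have hu : Fac p (uProd g D ep x) := by
    have h4 := fac_pre p (pmap g (Polynomial.aeval (0 : Ω) : A₀ →ₐ[Ω] Ω)) hz₀
    rw [MonObj.comp_mul, ← Category.assoc, pmap_comp,
      show (Polynomial.aeval (0 : Ω) : A₀ →ₐ[Ω] Ω).comp (Algebra.ofId Ω A₀) = AlgHom.id Ω Ω from
        Subsingleton.elim _ _, pmap_id, Category.id_comp, pmap_uProd,
      show (fun k => (Polynomial.aeval (0 : Ω) : A₀ →ₐ[Ω] Ω) (Polynomial.X ^ e k * Polynomial.C (y k))) = 0 from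
        funext fun k => by simp [e, (he k).not_ge, zero_pow]] at h4
    rwa [uProd_zero, _root_.mul_one] at h4
  -- the new system of positive roots
  let σ := wl D.P l
  have hΨ : IsPosSet D.P {c | σ⁻¹ • c ∈ RedSub.posRoots D.P b} := by
    refine ⟨fun a c d ha hc h' => ?_, fun a c ha h' hc => ?_⟩
    · refine (isPosSet_posRoots b).closed _ _ _ ha hc ?_
      rw [H21Root.root_smul, H21Root.root_smul, H21Root.root_smul, ← smul_add, h']
    · exact (isPosSet_posRoots b).noNeg _ _ ha (by rw [H21Root.root_smul, H21Root.root_smul, h', smul_neg]) hc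
  obtain ⟨b', hb'⟩ := H21Red0.exists_base_of_isPosSet D hΨ
  refine ⟨b', fun c hc => ?_⟩
  have hc' : σ⁻¹ • c ∈ RedSub.posRoots D.P b := by
    refine (pos_iff_not_neg D b _).mpr fun hneg => ?_
    rw [neg_iff_opp_pos, ← smul_opp] at hneg
    exact (notMem_neg_of_mem_pos b' hc) ((neg_iff_opp_pos D b' c).mpr (hb' hneg))
  obtain ⟨y', hy'⟩ := (rl_nW D l).conj_uPt D g (σ⁻¹ • c) (1 : Ω)
  rw [smul_inv_smul] at hy'
  refine ⟨y', fun h0 => ?_, ?_⟩
  · rw [h0, uPt_zero, conj_eq_one_iff] at hy'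
    haveI := isAffineHom_hom D
    obtain ⟨f₁, hf₁⟩ := (isPosSet_posRoots (P := D.P) b).exists_functional
    have h1 := prod_uPt_injective g D (fun _ : Fin 1 => σ⁻¹ • c) (fun i j _ => Subsingleton.elim i j) f₁
      (fun _ => hf₁ _ hc') (x := fun _ => (1 : Ω)) (y := fun _ => 0) (by
        simp only [List.ofFn_succ, List.ofFn_zero, List.prod_cons, List.prod_nil, _root_.mul_one, hy', uPt_zero])
    exact one_ne_zero (congrFun h1 0)
  · obtain ⟨zz, hzz⟩ := exists_lift_borel D g b hpos (j := q⁻¹ * uPt g D (σ⁻¹ • c) 1 * q)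
      (mul_mem (mul_mem (inv_mem hq) (uPt_mem_Bp D b g hc' 1)) hq)
    have h5 := hconj Ω zz
    rw [hzz, show Algebra.ofId Ω Ω = AlgHom.id Ω Ω from Subsingleton.elim _ _, pmap_id, Category.id_comp,
      ← hq₀] at h5
    have hpfac : Fac p (tPt g D χt * uProd g D ep x) := fac_mul p (fac_tPt D p tP htP g χt) hu
    have h6 := fac_mul p (fac_mul p (fac_inv p hpfac) h5) hpfac
    convert h6 using 1
    rw [← hy']
    simp only [hn, sec, Ω]
    group

include htP in
/-- **The roots of a parabolic subgroup containing the torus form a parabolic set.** -/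
theorem roots_parabolic [ConnectedSpace S] (hP : Red.IsParabolic p) (R' : Set D.idx)
    (hR' : ∀ a : D.idx, (∃ v : Red.Ga S ⟶ P, v ≫ p = D.u a) ↔ a ∈ R') :
    (∀ a b c : D.idx, a ∈ R' → b ∈ R' → D.P.root a + D.P.root b = D.P.root c → c ∈ R') ∧
      ∀ a b : D.idx, D.P.root b = -D.P.root a → a ∈ R' ∨ b ∈ R' := by
  haveI := isAffineHom_hom D
  haveI := hP.2.2.1
  haveI : Finite D.idx := Finite.of_fintype _
  haveI := D.finiteM
  haveI := D.freeM
  obtain ⟨s⟩ : Nonempty S := inferInstance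
  obtain ⟨b, hb⟩ := exists_base_fac D p tP htP hP s
  have hb' : ∀ c ∈ RedSub.posRoots D.P b, c ∈ R' := fun c hc => by
    by_contra hne
    obtain ⟨y, hy0, hy⟩ := hb c hc
    exact hy0 (eq_zero_of_fac' tP htP R' hR' (Red.geomPt s) hne hy)
  exact parabolic_of_stable b R'
    (fun c hc => hb' c ((H21Root.mem_posRoots (P := D.P) b c).trans (H21Root.isPos_iff_mem_posOf b c).symm |>.mpr hc))
    fun c x hc hc' hx => refl_mem tP htP R' hR' c x hc hc' hx

end Groth.Agent.H21Split.Parab
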